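import Cfsg.Agent.OrthGeo.Eichler
import Cfsg.Agent.Aschbacher.Tensor

/-! Over the field with three elements the stabiliser in Omega of a tensor decomposition with a three
dimensional symmetric factor permutes three orthogonal blocks, so it is not maximal. -/

set_option autoImplicit false
set_option linter.unusedSectionVars false

namespace CfsgLib.OrthGeo

open Cfsg.Geo Module
open scoped Matrix MatrixGroups commutatorElement Kronecker

section Forms

variable {κ : Type} [Fintype κ] [DecidableEq κ] {F : Type*} [Field F]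

/-- a bilinear form given as a function, bundled -/
noncomputable def bilinOf {f : (κ → F) → (κ → F) → F} (hf : IsBilinearForm f) :
    LinearMap.BilinForm F (κ → F) :=
  LinearMap.mk₂ F f hf.add_left (fun c x v => by simpa [smul_eq_mul] using hf.smul_left c x v)
    hf.add_right (fun c x v => by simpa [smul_eq_mul] using hf.smul_right c x v)

lemma bilinOf_apply {f : (κ → F) → (κ → F) → F} (hf : IsBilinearForm f) (x y : κ → F) :
    bilinOf hf x y = f x y := rfl

lemma formOfGram_gramMatrix {f : (κ → F) → (κ → F) → F} (hf : IsBilinearForm f) (x y : κ → F) :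
    formOfGram id (gramMatrix f) x y = f x y := by
  conv_rhs => rw [← bilinOf_apply hf, pi_eq_sum_univ' x, pi_eq_sum_univ' y]
  simp only [map_sum, map_smul, LinearMap.sum_apply, LinearMap.smul_apply, smul_eq_mul, bilinOf_apply,
    Finset.mul_sum]
  simp only [formOfGram, gramMatrix, id]
  rw [Finset.sum_comm]
  refine Finset.sum_congr rfl fun a _ => Finset.sum_congr rfl fun b _ => ?_
  ring

/-- pure tensors -/
def pureTen {κ' : Type} (x : κ → F) (y : κ' → F) : κ × κ' → F := fun p => x p.1 * y p.2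

lemma formOfGram_pureTen {κ' : Type} [Fintype κ'] [DecidableEq κ'] {f : (κ → F) → (κ → F) → F}
    {f' : (κ' → F) → (κ' → F) → F} (hf : IsBilinearForm f) (hf' : IsBilinearForm f') (x x' : κ → F)
    (y y' : κ' → F) :
    formOfGram id (gramMatrix f ⊗ₖ gramMatrix f') (pureTen x y) (pureTen x' y') = f x x' * f' y y' := by
  rw [← formOfGram_gramMatrix hf, ← formOfGram_gramMatrix hf']
  simp only [formOfGram, pureTen, id, Matrix.kroneckerMap_apply, Fintype.sum_prod_type]
  rw [Finset.sum_mul]
  refine Finset.sum_congr rfl fun i _ => ?_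
  rw [Finset.sum_mul, Finset.sum_comm]
  refine Finset.sum_congr rfl fun j _ => ?_
  rw [Finset.mul_sum]
  refine Finset.sum_congr rfl fun k _ => ?_
  rw [Finset.mul_sum]
  refine Finset.sum_congr rfl fun l _ => ?_
  ring

lemma kronecker_mulVec_pureTen {κ' : Type} [Fintype κ'] [DecidableEq κ'] (A : Matrix κ κ F)
    (B : Matrix κ' κ' F) (x : κ → F) (y : κ' → F) :
    (A ⊗ₖ B) *ᵥ pureTen x y = pureTen (A *ᵥ x) (B *ᵥ y) := by
  funext p
  simp only [Matrix.mulVec, dotProduct, pureTen, Matrix.kroneckerMap_apply, Fintype.sum_prod_type,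
    Finset.mul_sum, Finset.sum_mul]
  rw [Finset.sum_comm]
  refine Finset.sum_congr rfl fun _ _ => Finset.sum_congr rfl fun _ _ => ?_
  ring

lemma sq_eq_one_of_three [Fintype F] (hq : Fintype.card F = 3) {x : F} (hx : x ≠ 0) : x ^ 2 = 1 := by
  have := FiniteField.pow_card_sub_one_eq_one x hx
  rwa [hq] at this

lemma three_eq_zero [Fintype F] (hq : Fintype.card F = 3) : (3 : F) = 0 := by
  have := FiniteField.cast_card_eq_zero F
  rw [hq] at this
  exact_mod_cast this

/-- Up to similarity a three dimensional symmetric form over the field with three elements is the sum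
of squares. -/
lemma exists_equal_orthogonal [Fintype F] (hq : Fintype.card F = 3) {f : (Fin 3 → F) → (Fin 3 → F) → F}
    (hf : IsSymmetricForm f) :
    ∃ (ε : F) (v : Basis (Fin 3) F (Fin 3 → F)), ε ≠ 0 ∧ ∀ i j, f (v i) (v j) = if i = j then ε else 0 := by
  classical
  have h3 := three_eq_zero hq
  have h2 : (2 : F) ≠ 0 := fun h => one_ne_zero (show (1 : F) = 0 by linear_combination h3 - h)
  have : Invertible (2 : F) := invertibleOfNonzero h2
  set B := bilinOf hf.bilinear with hB
  have hsymm : LinearMap.IsSymm B := ⟨fun x y => by simp only [hB, bilinOf_apply, RingHom.id_apply]; exact hf.symm x y⟩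
  obtain ⟨v₀, hv₀⟩ := LinearMap.BilinForm.exists_orthogonal_basis hsymm
  let v : Basis (Fin 3) F (Fin 3 → F) := v₀.reindex (finCongr (Module.finrank_fin_fun F))
  have horth : ∀ i j, i ≠ j → f (v i) (v j) = 0 := fun i j hij => by
    simp only [v, Basis.reindex_apply, ← bilinOf_apply hf.bilinear, ← hB]
    exact hv₀ (fun h => hij (by simpa using h))
  have hd : ∀ i, f (v i) (v i) ≠ 0 := by
    intro i h0
    obtain ⟨x, hx⟩ := (hf.nondegenerate (v i) (v.ne_zero i)).2
    apply hx
    rw [← v.sum_repr x, ← bilinOf_apply hf.bilinear]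
    simp only [map_sum, map_smul, bilinOf_apply]
    refine Finset.sum_eq_zero fun j _ => ?_
    by_cases hij : i = j
    · subst hij; rw [h0, smul_zero]
    · rw [horth i j hij, smul_zero]
  -- two of the three values agree
  have hval : ∀ x : F, x ≠ 0 → x = 1 ∨ x = -1 := fun x hx => by
    have := sq_eq_one_of_three hq hx
    exact sq_eq_one_iff.1 this
  by_cases hall : ∀ i, f (v i) (v i) = f (v 0) (v 0)
  · refine ⟨f (v 0) (v 0), v, hd 0, fun i j => ?_⟩
    split_ifs with h
    · subst h; exact hall i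
    · exact horth i j h
  obtain ⟨i, j, k, hij, hik, hjk, hd1, hd2⟩ : ∃ i j k : Fin 3, i ≠ j ∧ i ≠ k ∧ j ≠ k ∧
      f (v i) (v i) = f (v j) (v j) ∧ f (v k) (v k) = - f (v i) (v i) := by
    have hneg : ∀ p q : Fin 3, f (v q) (v q) ≠ f (v p) (v p) → f (v q) (v q) = - f (v p) (v p) := by
      intro p q hne
      rcases hval _ (hd p) with a | a <;> rcases hval _ (hd q) with b | b <;> rw [a, b] at hne ⊢
      · exact absurd rfl hne
      · rw [neg_neg]
      · exact absurd rfl hne
    by_cases h01 : f (v 1) (v 1) = f (v 0) (v 0)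
    · refine ⟨0, 1, 2, by decide, by decide, by decide, h01.symm, hneg 0 2 fun h => hall fun i => ?_⟩
      match i with
      | 0 => rfl
      | 1 => exact h01
      | 2 => exact h
    · by_cases h02 : f (v 2) (v 2) = f (v 0) (v 0)
      · exact ⟨0, 2, 1, by decide, by decide, by decide, h02.symm, hneg 0 1 h01⟩
      · refine ⟨1, 2, 0, by decide, by decide, by decide, by rw [hneg 0 1 h01, hneg 0 2 h02], ?_⟩
        rw [hneg 0 1 h01, neg_neg]
  obtain ⟨d, hd0⟩ : ∃ d, f (v i) (v i) = d := ⟨_, rfl⟩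
  rw [hd0] at hd1 hd2
  let w : Fin 3 → (Fin 3 → F) := ![v i + v j, v i - v j, v k]
  have e1 := horth i j hij
  have e1' := horth j i hij.symm
  have e2 := horth i k hik
  have e2' := horth k i hik.symm
  have e3 := horth j k hjk
  have e3' := horth k j hjk.symm
  have hw : ∀ a b, f (w a) (w b) = if a = b then -d else 0 := by
    intro a b
    rw [← bilinOf_apply hf.bilinear]
    fin_cases a <;> fin_cases b <;>
      simp [w, map_add, map_sub] <;> simp [bilinOf_apply, hd0, e1, e1', e2, e2', e3, e3', hd2, ← hd1] <;>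
      first | linear_combination d * h3 | linear_combination (-d) * h3
  have hli : LinearIndependent F w := by
    rw [Fintype.linearIndependent_iff]
    intro g hg a
    have h := congrArg (bilinOf hf.bilinear (w a)) hg
    simp only [map_sum, map_smul, map_zero, bilinOf_apply, hw, smul_eq_mul] at h
    rw [Finset.sum_eq_single a (fun b _ hb => by rw [if_neg (Ne.symm hb), mul_zero])
      (fun h => absurd (Finset.mem_univ a) h), if_pos rfl] at h
    exact (mul_eq_zero.1 h).resolve_right (neg_ne_zero.2 (hd0 ▸ hd i))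
  refine ⟨-d, basisOfLinearIndependentOfCardEqFinrank hli (by simp), neg_ne_zero.2 (hd0 ▸ hd i), fun a b => ?_⟩
  simp only [coe_basisOfLinearIndependentOfCardEqFinrank, hw]

/-- Similarities of the sum of three squares over the field with three elements are monomial. -/
lemma similarity_monomial [Fintype F] (hq : Fintype.card F = 3) {f : (Fin 3 → F) → (Fin 3 → F) → F}
    (hf : IsBilinearForm f) {ε : F} (hε : ε ≠ 0) (v : Basis (Fin 3) F (Fin 3 → F))
    (hv : ∀ i j, f (v i) (v j) = if i = j then ε else 0) {μ : F} (hμ : μ ≠ 0) (a : Fin 3 → (Fin 3 → F))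
    (ha : ∀ i j, f (a i) (a j) = μ * f (v i) (v j)) :
    ∃ σ : Equiv.Perm (Fin 3), ∀ i, ∃ s : F, s ≠ 0 ∧ a i = s • v (σ i) := by
  classical
  have h3 := three_eq_zero hq
  let C : Matrix (Fin 3) (Fin 3) F := fun i k => v.repr (a i) k
  have hsum : ∀ i j, f (a i) (a j) = ε * ∑ k, C i k * C j k := by
    intro i j
    conv_lhs => rw [← v.sum_repr (a i), ← v.sum_repr (a j), ← bilinOf_apply hf]
    simp only [map_sum, map_smul, LinearMap.sum_apply, LinearMap.smul_apply, bilinOf_apply, hv, smul_eq_mul,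
      mul_ite, mul_zero, Finset.sum_ite_eq, Finset.sum_ite_eq', Finset.mem_univ, if_true, Finset.mul_sum, C]
    refine Finset.sum_congr rfl fun k _ => ?_
    ring
  have hC : C * Cᵀ = μ • 1 := by
    ext i j
    have h := hsum i j
    rw [ha, hv] at h
    rw [Matrix.mul_apply, Matrix.smul_apply, Matrix.one_apply]
    simp only [Matrix.transpose_apply, smul_eq_mul, mul_ite, mul_one, mul_zero]
    apply mul_left_cancel₀ hε
    rw [← h]
    split_ifs <;> ring
  have hμ1 : μ = 1 := by
    have h := congrArg Matrix.det hC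
    rw [Matrix.det_mul, Matrix.det_transpose, Matrix.det_smul, Matrix.det_one, mul_one, Fintype.card_fin] at h
    have hne : C.det ≠ 0 := fun h0 => by
      rw [h0, zero_mul] at h
      exact hμ (pow_eq_zero_iff (by norm_num) |>.1 h.symm)
    rw [← sq, sq_eq_one_of_three hq hne, pow_succ, sq_eq_one_of_three hq hμ, one_mul] at h
    exact h.symm
  -- each row has one entry
  have hrow : ∀ i, ∃ k, C i k ≠ 0 ∧ ∀ l, l ≠ k → C i l = 0 := by
    intro i
    have h := congrFun (congrFun hC i) i
    rw [hμ1, one_smul, Matrix.mul_apply, Matrix.one_apply_eq, Fin.sum_univ_three] at h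
    simp only [Matrix.transpose_apply, ← sq] at h
    have pick : ∀ k l l' : Fin 3, (∀ r, r = k ∨ r = l ∨ r = l') → C i k ≠ 0 → C i l = 0 → C i l' = 0 →
        ∃ k, C i k ≠ 0 ∧ ∀ r, r ≠ k → C i r = 0 := fun k l l' hall hk hl hl' =>
      ⟨k, hk, fun r hr => by
        rcases hall r with e | e | e
        · exact absurd e hr
        · rw [e]; exact hl
        · rw [e]; exact hl'⟩
    have hz : ∀ x : F, x = 0 → x ^ 2 = 0 := fun x hx => by rw [hx]; norm_num
    have hnz : ∀ x : F, x ≠ 0 → x ^ 2 = 1 := fun x hx => sq_eq_one_of_three hq hx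
    by_cases a0 : C i 0 = 0
    · rw [hz _ a0] at h
      by_cases a1 : C i 1 = 0
      · rw [hz _ a1] at h
        by_cases a2 : C i 2 = 0
        · rw [hz _ a2] at h; exact absurd (show (1 : F) = 0 by linear_combination -h) one_ne_zero
        · exact pick 2 0 1 (by decide) a2 a0 a1
      · rw [hnz _ a1] at h
        by_cases a2 : C i 2 = 0
        · exact pick 1 0 2 (by decide) a1 a0 a2
        · rw [hnz _ a2] at h; exact absurd (show (1 : F) = 0 by linear_combination h) one_ne_zero
    · rw [hnz _ a0] at h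
      by_cases a1 : C i 1 = 0
      · rw [hz _ a1] at h
        by_cases a2 : C i 2 = 0
        · exact pick 0 1 2 (by decide) a0 a1 a2
        · rw [hnz _ a2] at h; exact absurd (show (1 : F) = 0 by linear_combination h) one_ne_zero
      · rw [hnz _ a1] at h
        by_cases a2 : C i 2 = 0
        · rw [hz _ a2] at h; exact absurd (show (1 : F) = 0 by linear_combination h) one_ne_zero
        · rw [hnz _ a2] at h; exact absurd (show (1 : F) = 0 by linear_combination h3 - h) one_ne_zero
  choose σ hσ hσ' using hrow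
  have hai : ∀ i, a i = C i (σ i) • v (σ i) := by
    intro i
    conv_lhs => rw [← v.sum_repr (a i)]
    exact Finset.sum_eq_single (σ i) (fun l _ hl => by rw [show v.repr (a i) l = 0 from hσ' i l hl, zero_smul])
      (fun h => absurd (Finset.mem_univ _) h)
  have hinj : Function.Injective σ := by
    intro i j e
    by_contra hij
    have h := hsum i j
    rw [ha, hv, if_neg hij, mul_zero, Finset.sum_eq_single (σ i)
      (fun l _ hl => by rw [hσ' i l hl, zero_mul]) (fun h => absurd (Finset.mem_univ _) h)] at h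
    exact mul_ne_zero hε (mul_ne_zero (hσ i) (e ▸ hσ j)) h.symm
  exact ⟨Equiv.ofBijective σ (Finite.injective_iff_bijective.1 hinj), fun i => ⟨C i (σ i), hσ i, hai i⟩⟩

end Forms

variable {ι : Type} [Fintype ι] [DecidableEq ι] {F : Type*} [Field F]
variable {Q : (ι → F) → F}

lemma reflection_conj_mulVec (hQ : IsNondegenerateQuadraticForm Q) {a b : ι → F} (ha : Q a ≠ 0) (hb : Q b ≠ 0)
    (z : ι → F) :
    ((reflection hQ ha * reflection hQ hb * reflection hQ ha : GL ι F) : Matrix ι ι F) *ᵥ z =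
      z - ((Q b)⁻¹ * bform hQ ((reflection hQ ha : Matrix ι ι F) *ᵥ b) z) •
        ((reflection hQ ha : Matrix ι ι F) *ᵥ b) := by
  have hinv : (reflection hQ ha : Matrix ι ι F) *ᵥ ((reflection hQ ha : Matrix ι ι F) *ᵥ z) = z := by
    change ((reflection hQ ha)⁻¹ : GL ι F).val *ᵥ _ = z
    exact inv_mulVec_cancel _ z
  rw [Units.val_mul, Units.val_mul, ← Matrix.mulVec_mulVec, ← Matrix.mulVec_mulVec, reflection_mulVec hQ hb,
    Matrix.mulVec_sub, Matrix.mulVec_smul, hinv,
    ← isometry_b hQ (reflection_mem hQ ha) b ((reflection hQ ha : Matrix ι ι F) *ᵥ z), hinv]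

theorem tensor_three_not_maximal [Fintype F] (hq : Fintype.card F = 3) (hQ : IsNondegenerateQuadraticForm Q)
    {n₂ : ℕ} (h2 : 3 ≤ n₂) (e : ι ≃ Fin 3 × Fin n₂) (P : GL ι F)
    (f₁ : (Fin 3 → F) → (Fin 3 → F) → F) (f₂ : (Fin n₂ → F) → (Fin n₂ → F) → F)
    (hf₁ : IsSymmetricForm f₁) (hf₂ : IsSymmetricForm f₂)
    (hT : IsTensorFormStructure id (QuadraticMap.polar Q) f₁ f₂ e P) :
    ∃ K : Subgroup (GL ι F), tensorProductSubgroup 3 n₂ e P ⊓ omegaGL Q < K ∧ K < omegaGL Q := by
  classical
  have h3 := three_eq_zero hq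
  have h22 : (2 : F) ≠ 0 := fun h => one_ne_zero (show (1 : F) = 0 by linear_combination h3 - h)
  obtain ⟨c, hc, hcT⟩ := hT
  obtain ⟨ε, v, hε, hv⟩ := exists_equal_orthogonal hq hf₁
  let ten : (Fin 3 → F) → (Fin n₂ → F) → (ι → F) := fun x y => (P : Matrix ι ι F) *ᵥ (pureTen x y ∘ e)
  have hten : ∀ x y x' y', bform hQ (ten x y) (ten x' y') = c * (f₁ x x' * f₂ y y') := fun x y x' y' => by
    rw [bform_apply]
    exact (hcT _ _).trans (by rw [formOfGram_pureTen hf₁.bilinear hf₂.bilinear])
  have hteninj : ∀ x y x' y', ten x y = ten x' y' → ∀ i k, x i * y k = x' i * y' k := by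
    intro x y x' y' h i k
    have h' := congrArg (fun z => ((P⁻¹ : GL ι F) : Matrix ι ι F) *ᵥ z) h
    simp only [ten, inv_mulVec_cancel] at h'
    have := congrFun h' (e.symm (i, k))
    simpa [pureTen] using this
  let T : Fin 3 → (Fin n₂ → F) →ₗ[F] (ι → F) := fun i =>
    { toFun := ten (v i)
      map_add' := fun y y' => by
        show (P : Matrix ι ι F) *ᵥ _ = _
        rw [← Matrix.mulVec_add]; congr 1; funext p; simp [pureTen, mul_add]
      map_smul' := fun t y => by
        show (P : Matrix ι ι F) *ᵥ _ = _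
        rw [RingHom.id_apply, ← Matrix.mulVec_smul]; congr 1; funext p; simp [pureTen]; ring }
  have hTT : ∀ i j y y', bform hQ (T i y) (T j y') = if i = j then c * ε * f₂ y y' else 0 := fun i j y y' => by
    show bform hQ (ten (v i) y) (ten (v j) y') = _
    rw [hten, hv]; split_ifs <;> ring
  let D : Fin 3 → Submodule F (ι → F) := fun i => LinearMap.range (T i)
  set K : Subgroup (GL ι F) := decompositionStabilizer D ⊓ omegaGL Q
  -- the tensor stabiliser permutes the three blocks
  have hle : tensorProductSubgroup 3 n₂ e P ⊓ omegaGL Q ≤ K := by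
    rintro g ⟨hg, hgΩ⟩
    refine ⟨?_, hgΩ⟩
    obtain ⟨A, B, hAB⟩ := (CfsgLib.Aschbacher.mem_tensorProductSubgroup_iff e P g).1 hg
    have hgt : ∀ x y, (g : Matrix ι ι F) *ᵥ ten x y
        = ten ((A : Matrix _ _ F) *ᵥ x) ((B : Matrix _ _ F) *ᵥ y) := by
      intro x y
      rw [hAB, CfsgLib.Aschbacher.tconj_apply]
      simp only [ten]
      rw [← Matrix.mulVec_mulVec, inv_mulVec_cancel, ← Matrix.mulVec_mulVec, ← kronecker_mulVec_pureTen]
      congr 1
      rw [Matrix.submatrix_mulVec_equiv, Function.comp_assoc, Equiv.self_comp_symm, Function.comp_id]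
    obtain ⟨y₀, y₁, hy⟩ : ∃ y₀ y₁, f₂ y₀ y₁ ≠ 0 := by
      obtain ⟨y₀, hy₀⟩ : ∃ y₀ : Fin n₂ → F, y₀ ≠ 0 := ⟨Pi.single ⟨0, by omega⟩ 1, by simp⟩
      obtain ⟨y₁, hy₁⟩ := (hf₂.nondegenerate y₀ hy₀).2
      exact ⟨y₀, y₁, hy₁⟩
    set t := f₂ ((B : Matrix _ _ F) *ᵥ y₀) ((B : Matrix _ _ F) *ᵥ y₁) with ht
    have hiso : ∀ x x', t * f₁ ((A : Matrix _ _ F) *ᵥ x) ((A : Matrix _ _ F) *ᵥ x') = f₂ y₀ y₁ * f₁ x x' := by
      intro x x'
      have h := isometry_b hQ (omegaGL_le hgΩ) (ten x y₀) (ten x' y₁)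
      rw [hgt, hgt, hten, hten] at h
      have := mul_left_cancel₀ hc h
      linear_combination this
    have ht0 : t ≠ 0 := by
      intro h0
      have h := hiso (v 0) (v 0)
      rw [h0, zero_mul, hv, if_pos rfl] at h
      exact mul_ne_zero hy hε h.symm
    obtain ⟨σ, hσ⟩ := similarity_monomial hq hf₁.bilinear hε v hv (μ := t⁻¹ * f₂ y₀ y₁)
      (mul_ne_zero (inv_ne_zero ht0) hy) (fun i => (A : Matrix _ _ F) *ᵥ v i) (fun i j => by
        rw [mul_assoc, ← hiso, ← mul_assoc, inv_mul_cancel₀ ht0, one_mul])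
    refine ⟨σ, fun i => ?_⟩
    obtain ⟨s, hs, hsa⟩ := hσ i
    have hgT : ∀ y, (g : Matrix ι ι F) *ᵥ T i y = T (σ i) (s • ((B : Matrix _ _ F) *ᵥ y)) := by
      intro y
      show (g : Matrix ι ι F) *ᵥ ten (v i) y = ten (v (σ i)) _
      rw [hgt, hsa]
      simp only [ten]
      congr 1
      funext p; simp [pureTen]; ring
    apply le_antisymm
    · rintro _ ⟨_, ⟨y, rfl⟩, rfl⟩
      exact ⟨_, (hgT y).symm⟩
    · rintro _ ⟨y, rfl⟩
      refine ⟨T i (((B⁻¹ : GL (Fin n₂) F) : Matrix _ _ F) *ᵥ (s⁻¹ • y)), ⟨_, rfl⟩, ?_⟩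
      rw [Matrix.toLin'_apply, hgT, mulVec_inv_cancel, smul_smul, mul_inv_cancel₀ hs, one_smul]
  -- vectors in the second factor
  let k : LinearMap.BilinForm F (Fin n₂ → F) := (c * ε) • bilinOf hf₂.bilinear
  have hk : ∀ y y', k y y' = c * ε * f₂ y y' := fun y y' => rfl
  have hksymm : ∀ y y', k y y' = k y' y := fun y y' => by rw [hk, hk, hf₂.symm]
  have hknd : ∀ y, y ≠ 0 → ∃ u, k y u ≠ 0 := fun y hy => by
    obtain ⟨u, hu⟩ := (hf₂.nondegenerate y hy).2
    exact ⟨u, by rw [hk]; exact mul_ne_zero (mul_ne_zero hc hε) hu⟩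
  simp only [← hk] at hTT
  obtain ⟨x, hx⟩ : ∃ x, k x x ≠ 0 := by
    by_contra hno
    push Not at hno
    obtain ⟨u, hu⟩ := hknd (Pi.single ⟨0, by omega⟩ 1) (by simp)
    have h := hno (Pi.single ⟨0, by omega⟩ 1 + u)
    simp only [map_add, LinearMap.add_apply, hno, hksymm u] at h
    exact mul_ne_zero h22 hu (by linear_combination h)
  have hker : ∀ p q : Fin n₂ → F, ∃ w, w ≠ 0 ∧ k p w = 0 ∧ k q w = 0 := by
    intro p q
    have := LinearMap.ker_ne_bot_of_finrank_lt (f := (k p).prod (k q))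
      (by rw [Module.finrank_prod, Module.finrank_self, Module.finrank_fin_fun]; omega)
    obtain ⟨w, hw, hw0⟩ := Submodule.exists_mem_ne_zero_of_ne_bot this
    simp only [LinearMap.mem_ker, LinearMap.prod_apply, Prod.ext_iff] at hw
    exact ⟨w, hw0, hw.1, hw.2⟩
  obtain ⟨z, hz0, hxz, hyy⟩ : ∃ z, z ≠ 0 ∧ k x z = 0 ∧ k x x + k z z ≠ 0 := by
    obtain ⟨z, hz0, hxz, -⟩ := hker x x
    obtain ⟨z', hz'0, hxz', hzz'⟩ := hker x z
    by_contra hno
    push Not at hno
    have e1 := hno z hz0 hxz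
    have e2 := hno z' hz'0 hxz'
    by_cases h0 : z + z' = 0
    · rw [eq_neg_of_add_eq_zero_right h0, map_neg] at hzz'
      exact hx (by rw [neg_eq_zero.1 hzz', add_zero] at e1; exact e1)
    · have e3 := hno (z + z') h0 (by rw [map_add, hxz, hxz', add_zero])
      simp only [map_add, LinearMap.add_apply, hksymm z' z, hzz'] at e3
      exact hx (by linear_combination e1 + e2 - e3)
  set y := x + z with hy
  have hky : k y y = k x x + k z z := by
    simp only [hy, map_add, LinearMap.add_apply, hksymm z x, hxz]; ring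
  have hkxy : k x y = k x x := by rw [hy, map_add, hxz, add_zero]
  obtain ⟨w, hyw, hxw⟩ : ∃ w, k y w = 0 ∧ k x w ≠ 0 := by
    have hne : k z z • x - k x x • z ≠ 0 := by
      intro h0
      have h1 := congrArg (k x) h0
      simp only [map_sub, map_smul, map_zero, hxz, smul_eq_mul, mul_zero, sub_zero] at h1
      rw [(mul_eq_zero.1 h1).resolve_right hx, zero_smul, zero_sub, neg_eq_zero, smul_eq_zero] at h0
      exact h0.elim hx hz0
    obtain ⟨u, hu⟩ := hknd _ hne
    refine ⟨k y y • u - k y u • y, by simp only [map_sub, map_smul, smul_eq_mul]; ring, fun h => hu ?_⟩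
    simp only [map_sub, map_smul, smul_eq_mul, hkxy, hky] at h
    simp only [map_sub, map_smul, LinearMap.sub_apply, LinearMap.smul_apply, smul_eq_mul]
    rw [hy, map_add, LinearMap.add_apply] at h
    linear_combination h
  obtain ⟨w₀, hw₀, hxw₀, hyw₀⟩ := hker x y
  have hQ2 : ∀ a : ι → F, 2 * Q a = bform hQ a a := fun a => (b_self hQ a).symm
  have hb : Q (T 0 y) ≠ 0 := fun h0 => by
    have h := hQ2 (T 0 y)
    rw [h0, mul_zero, hTT, if_pos rfl, hky] at h
    exact hyy h.symm
  refine ⟨K, lt_of_le_not_ge hle ?_, lt_of_le_not_ge inf_le_right ?_⟩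
  · -- a commutator of reflections inside the first block
    intro hge
    have ha : Q (T 0 x) ≠ 0 := fun h0 => by
      have h := hQ2 (T 0 x)
      rw [h0, mul_zero, hTT, if_pos rfl] at h
      exact hx h.symm
    have hQa : Q (T 0 x) = - k x x := by
      have h := hQ2 (T 0 x)
      rw [hTT, if_pos rfl] at h
      linear_combination -h + Q (T 0 x) * h3
    set g := ⁅reflection hQ ha, reflection hQ hb⁆ with hgdef
    have hb' : (reflection hQ ha : Matrix ι ι F) *ᵥ T 0 y = T 0 (y + x) := by
      rw [reflection_mulVec hQ, hTT, if_pos rfl, hkxy, hQa, inv_neg, neg_mul, inv_mul_cancel₀ hx,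
        neg_one_smul, sub_neg_eq_add, ← map_add]
    have hgv : ∀ u, bform hQ (T 0 y) u = 0 → (g : Matrix ι ι F) *ᵥ u
        = u - ((Q (T 0 y))⁻¹ * bform hQ (T 0 (y + x)) u) • T 0 (y + x) := by
      intro u hu
      have : g = reflection hQ ha * reflection hQ hb * reflection hQ ha * reflection hQ hb := rfl
      rw [this, Units.val_mul, ← Matrix.mulVec_mulVec, reflection_mulVec hQ hb, hu, mul_zero, zero_smul,
        sub_zero, reflection_conj_mulVec hQ, hb']
    have g2 : ∀ u, (g : Matrix ι ι F) *ᵥ T 1 u = T 1 u := fun u => by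
      rw [hgv _ (by rw [hTT, if_neg (by decide)]), hTT, if_neg (by decide), mul_zero, zero_smul, sub_zero]
    have g10 : (g : Matrix ι ι F) *ᵥ T 0 w₀ = T 0 w₀ := by
      rw [hgv _ (by rw [hTT, if_pos rfl, hyw₀]), hTT, if_pos rfl, map_add k, LinearMap.add_apply, hyw₀, hxw₀,
        add_zero, mul_zero, zero_smul, sub_zero]
    have g1 : (g : Matrix ι ι F) *ᵥ T 0 w ≠ T 0 w := by
      rw [hgv _ (by rw [hTT, if_pos rfl, hyw]), hTT, if_pos rfl, map_add k, LinearMap.add_apply, hyw, zero_add,
        Ne, sub_eq_self, smul_eq_zero, mul_eq_zero, inv_eq_zero]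
      rintro ((h | h) | h)
      · exact hb h
      · exact hxw h
      · have h' := congrArg (bform hQ (T 0 x)) h
        rw [hTT, if_pos rfl, map_zero, map_add, hkxy] at h'
        exact mul_ne_zero h22 hx (by linear_combination h')
    have hgK : g ∈ K := by
      refine ⟨⟨1, fun i => ?_⟩, commutator_mem_omegaGL (reflection_mem hQ ha) (reflection_mem hQ hb)⟩
      have hmaps : ∀ u ∈ D i, (g : Matrix ι ι F) *ᵥ u ∈ D i := by
        rintro _ ⟨u, rfl⟩
        by_cases hi : i = 0
        · subst hi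
          have hr : ∀ {a : Fin n₂ → F} (ha : Q (T 0 a) ≠ 0) (u : Fin n₂ → F),
              ∃ u', (reflection hQ ha : Matrix ι ι F) *ᵥ T 0 u = T 0 u' := fun {a} ha u =>
            ⟨u - ((Q (T 0 a))⁻¹ * bform hQ (T 0 a) (T 0 u)) • a, by
              rw [reflection_mulVec hQ, map_sub, map_smul]⟩
          obtain ⟨u₁, e1⟩ := hr hb u
          obtain ⟨u₂, e2⟩ := hr ha u₁
          obtain ⟨u₃, e3⟩ := hr hb u₂
          obtain ⟨u₄, e4⟩ := hr ha u₃
          refine ⟨u₄, ?_⟩
          have : g = reflection hQ ha * reflection hQ hb * reflection hQ ha * reflection hQ hb := rfl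
          rw [this, Units.val_mul, Units.val_mul, Units.val_mul, ← Matrix.mulVec_mulVec, ← Matrix.mulVec_mulVec,
            ← Matrix.mulVec_mulVec, e1, e2, e3, e4]
        · refine ⟨u, ?_⟩
          rw [hgv _ (by rw [hTT, if_neg (Ne.symm hi)]), hTT, if_neg (Ne.symm hi), mul_zero, zero_smul, sub_zero]
      have hinj : Function.Injective (Matrix.toLin' (g : Matrix ι ι F)) := fun p q hpq => by
        have := congrArg (fun r => ((g⁻¹ : GL ι F) : Matrix ι ι F) *ᵥ r) hpq
        simpa [Matrix.toLin'_apply, inv_mulVec_cancel] using this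
      refine Submodule.eq_of_le_of_finrank_le ?_ (Submodule.equivMapOfInjective _ hinj (D i)).finrank_eq.le
      rintro _ ⟨u, hu, rfl⟩
      exact hmaps u hu
    obtain ⟨A, B, hAB⟩ := (CfsgLib.Aschbacher.mem_tensorProductSubgroup_iff e P g).1 (hge hgK).1
    have hgt : ∀ x y, (g : Matrix ι ι F) *ᵥ ten x y
        = ten ((A : Matrix _ _ F) *ᵥ x) ((B : Matrix _ _ F) *ᵥ y) := by
      intro x y
      rw [hAB, CfsgLib.Aschbacher.tconj_apply]
      simp only [ten]
      rw [← Matrix.mulVec_mulVec, inv_mulVec_cancel, ← Matrix.mulVec_mulVec, ← kronecker_mulVec_pureTen]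
      congr 1
      rw [Matrix.submatrix_mulVec_equiv, Function.comp_assoc, Equiv.self_comp_symm, Function.comp_id]
    -- the second block forces a scalar
    obtain ⟨i, hi⟩ : ∃ i, v 1 i ≠ 0 := Function.ne_iff.1 (v.ne_zero 1)
    have hpure : ∀ u j, ((A : Matrix _ _ F) *ᵥ v 1) i * ((B : Matrix _ _ F) *ᵥ u) j = v 1 i * u j :=
      fun u j => hteninj _ _ _ _ ((hgt (v 1) u).symm.trans (g2 u)) i j
    set α := ((A : Matrix _ _ F) *ᵥ v 1) i
    have hα : α ≠ 0 := fun h0 => by
      obtain ⟨j, hj⟩ := Function.ne_iff.1 hw₀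
      have := hpure w₀ j
      rw [h0, zero_mul] at this
      exact mul_ne_zero hi hj this.symm
    have hB : ∀ u, (B : Matrix _ _ F) *ᵥ u = (α⁻¹ * v 1 i) • u := fun u => by
      funext j
      rw [Pi.smul_apply, smul_eq_mul, mul_assoc, ← hpure, inv_mul_cancel_left₀ hα]
    apply g1
    obtain ⟨j, hj⟩ := Function.ne_iff.1 hw₀
    have h0 := hteninj _ _ _ _ ((hgt (v 0) w₀).symm.trans g10)
    show (g : Matrix ι ι F) *ᵥ ten (v 0) w = ten (v 0) w
    rw [hgt]
    simp only [ten]
    congr 2
    funext p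
    have h0p := h0 p.1 j
    rw [hB] at h0p ⊢
    simp only [pureTen, Pi.smul_apply, smul_eq_mul] at h0p ⊢
    have : ((A : Matrix _ _ F) *ᵥ v 0) p.1 * (α⁻¹ * v 1 i) = v 0 p.1 :=
      mul_right_cancel₀ hj (by linear_combination h0p)
    linear_combination w p.2 * this
  · -- a commutator of reflections mixing two blocks
    intro hge
    have hva : bform hQ (T 0 x + T 1 x) (T 0 x + T 1 x) = 2 * k x x := by
      simp only [map_add, LinearMap.add_apply, hTT]; simp; ring
    have ha : Q (T 0 x + T 1 x) ≠ 0 := fun h0 => by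
      have h := hQ2 (T 0 x + T 1 x)
      rw [h0, mul_zero, hva] at h
      exact mul_ne_zero h22 hx h.symm
    have hQa : Q (T 0 x + T 1 x) = k x x := by
      have h := hQ2 (T 0 x + T 1 x)
      rw [hva] at h
      exact mul_left_cancel₀ h22 h
    set g := ⁅reflection hQ ha, reflection hQ hb⁆
    have hb' : (reflection hQ ha : Matrix ι ι F) *ᵥ T 0 y = T 0 z - T 1 x := by
      rw [reflection_mulVec hQ, map_add (bform hQ), LinearMap.add_apply, hTT, hTT, if_pos rfl,
        if_neg (by decide), add_zero, hkxy, hQa, inv_mul_cancel₀ hx, one_smul, hy, map_add]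
      abel
    have hgv : ∀ u, bform hQ (T 0 y) u = 0 → (g : Matrix ι ι F) *ᵥ u
        = u - ((Q (T 0 y))⁻¹ * bform hQ (T 0 z - T 1 x) u) • (T 0 z - T 1 x) := by
      intro u hu
      have : g = reflection hQ ha * reflection hQ hb * reflection hQ ha * reflection hQ hb := rfl
      rw [this, Units.val_mul, ← Matrix.mulVec_mulVec, reflection_mulVec hQ hb, hu, mul_zero, zero_smul,
        sub_zero, reflection_conj_mulVec hQ, hb']
    have hzw : ∀ u, k y u = 0 → k z u = - k x u := fun u hu => by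
      rw [hy, map_add, LinearMap.add_apply] at hu; linear_combination hu
    have hbB : ∀ u, bform hQ (T 0 z - T 1 x) (T 0 u) = k z u := fun u => by
      rw [map_sub, LinearMap.sub_apply, hTT, hTT, if_pos rfl, if_neg (by decide), sub_zero]
    obtain ⟨σ, hσ⟩ := (hge (commutator_mem_omegaGL (reflection_mem hQ ha) (reflection_mem hQ hb))).1
    have hmem : ∀ u, (g : Matrix ι ι F) *ᵥ T 0 u ∈ D (σ 0) := fun u => by
      rw [← hσ 0]; exact ⟨T 0 u, ⟨u, rfl⟩, rfl⟩
    have hσ0 : σ 0 = 0 := by
      by_contra hne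
      obtain ⟨u, hu⟩ := hmem w₀
      rw [hgv _ (by rw [hTT, if_pos rfl, hyw₀]), hbB, hzw _ hyw₀, hxw₀, neg_zero, mul_zero, zero_smul,
        sub_zero] at hu
      obtain ⟨u', hu'⟩ := hknd w₀ hw₀
      have h := congrArg (fun r => bform hQ r (T 0 u')) hu
      simp only [hTT, if_neg hne, if_pos rfl] at h
      exact hu' h.symm
    obtain ⟨u, hu⟩ := hmem w
    rw [hσ0, hgv _ (by rw [hTT, if_pos rfl, hyw]), hbB, hzw _ hyw] at hu
    have h := congrArg (fun r => bform hQ r (T 1 x)) hu
    simp only [map_sub, map_smul, LinearMap.sub_apply, LinearMap.smul_apply, hTT, smul_eq_mul] at h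
    simp at h
    rcases h with (h | h) | h
    · exact hb h
    · exact hxw h
    · exact hx h

end CfsgLib.OrthGeo
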