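import Cfsg.Agent.OrthGeo.Classes
import Cfsg.Agent.Classical.Orth.CartanDieudonne

/-! In characteristic two Omega has index at most two in the isometry group and contains every product of
two reflections. -/

set_option autoImplicit false
set_option linter.unusedSectionVars false

namespace CfsgLib.OrthGeo

open Cfsg.Geo Module
open scoped Matrix MatrixGroups commutatorElement

variable {ι : Type} [Fintype ι] [DecidableEq ι] {F : Type*} [Field F]
variable {Q : (ι → F) → F} (hQ : IsNondegenerateQuadraticForm Q)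
include hQ

lemma reflection_mul_reflection_self {a : ι → F} (ha : Q a ≠ 0) :
    reflection hQ ha * reflection hQ ha = 1 :=
  CfsgLib.Classical.Orth.reflection_mul_self hQ ha

lemma reflection_inv {a : ι → F} (ha : Q a ≠ 0) : (reflection hQ ha)⁻¹ = reflection hQ ha :=
  inv_eq_of_mul_eq_one_left (reflection_mul_reflection_self hQ ha)

lemma reflection_smul {a : ι → F} (ha : Q a ≠ 0) {c : F} (hca : Q (c • a) ≠ 0) :
    reflection hQ hca = reflection hQ ha := by
  refine gl_ext fun x => ?_
  rw [reflection_mulVec hQ, reflection_mulVec hQ, q_smul hQ, map_smul, LinearMap.smul_apply, smul_eq_mul,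
    smul_smul]
  have hc : c ≠ 0 := by rintro rfl; exact hca (by rw [zero_smul, q_zero hQ])
  congr 2
  field_simp

lemma conj_reflection {h : GL ι F} (hh : h ∈ Cfsg.isometryGroup F Q) {a b : ι → F} (ha : Q a ≠ 0) (hb : Q b ≠ 0)
    (hab : (h : Matrix ι ι F) *ᵥ a = b) : h * reflection hQ ha * h⁻¹ = reflection hQ hb := by
  refine gl_ext fun x => ?_
  obtain ⟨y, rfl⟩ : ∃ y, x = (h : Matrix ι ι F) *ᵥ y := ⟨_, (mulVec_inv_cancel h x).symm⟩
  subst hab
  rw [Units.val_mul, Units.val_mul, ← Matrix.mulVec_mulVec, ← Matrix.mulVec_mulVec, inv_mulVec_cancel,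
    reflection_mulVec hQ, reflection_mulVec hQ, isometry_b hQ hh, mem_isometryGroup.1 hh, Matrix.mulVec_sub,
    Matrix.mulVec_smul]

variable [Finite F] [CharP F 2]

/-- In characteristic two vectors with the same non-zero value lie in one orbit of the isometry group. -/
lemma exists_isometry_map_value (hexc : ¬ (Nat.card F = 2 ∧ Fintype.card ι = 4)) {a b : ι → F} (ha : Q a ≠ 0)
    (h : Q a = Q b) : ∃ g ∈ Cfsg.isometryGroup F Q, (g : Matrix ι ι F) *ᵥ a = b := by
  have ha0 : a ≠ 0 := fun h0 => ha (by rw [h0, q_zero hQ])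
  have hb0 : b ≠ 0 := fun h0 => ha (by rw [h, h0, q_zero hQ])
  by_cases hn : 5 ≤ Fintype.card ι
  · obtain ⟨g, hg, hga⟩ := exists_map_value hQ hn ha0 hb0 h
    exact ⟨g, eichlerGroup_le_isometry hQ hg, hga⟩
  by_cases hab : a = b
  · exact ⟨1, one_mem _, by rw [Units.val_one, Matrix.one_mulVec, hab]⟩
  have two : (2 : F) = 0 := by exact_mod_cast CharP.cast_eq_zero F 2
  have haa : bform hQ a a = 0 := by rw [b_self hQ, two, zero_mul]
  have hbb : bform hQ b b = 0 := by rw [b_self hQ, two, zero_mul]
  have step : ∀ x y : ι → F, Q x = Q y → bform hQ x y ≠ 0 →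
      ∃ g ∈ Cfsg.isometryGroup F Q, (g : Matrix ι ι F) *ᵥ x = y := by
    intro x y hxy hb
    have hxx : bform hQ x x = 0 := by rw [b_self hQ, two, zero_mul]
    have hq : Q (x + y) = bform hQ x y := by
      rw [q_add hQ, hxy]; linear_combination (Q y) * two
    have hq0 : Q (x + y) ≠ 0 := by rw [hq]; exact hb
    refine ⟨reflection hQ hq0, reflection_mem hQ hq0, ?_⟩
    rw [reflection_mulVec hQ, hq, map_add, LinearMap.add_apply, hxx, zero_add, b_symm hQ y x,
      inv_mul_cancel₀ hb, one_smul]
    have hneg : ∀ z : ι → F, -z = z := fun z => by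
      rw [← neg_one_smul F, CharTwo.neg_eq, one_smul]
    rw [sub_add_cancel_left, hneg]
  by_cases hbab : bform hQ a b = 0
  swap
  · exact step a b h hbab
  have hnot : b ∉ Submodule.span F {a} := by
    intro hmem
    obtain ⟨t, rfl⟩ := Submodule.mem_span_singleton.1 hmem
    rw [q_smul hQ] at h
    have h1 : (t - 1) * (t - 1) = 0 := by
      have : (t ^ 2 - 1) * Q a = 0 := by linear_combination -h
      have := (mul_eq_zero.1 this).resolve_right ha
      linear_combination this + (1 - t) * two
    rw [mul_self_eq_zero, sub_eq_zero] at h1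
    exact hab (by rw [h1, one_smul])
  have hq2 : Nat.card F ≠ 2 := by
    intro h2
    set S := Submodule.span F {a} ⊔ Submodule.span F {b} with hS
    have hle : S ≤ perp hQ S := by
      rw [hS, perp_sup hQ]
      refine sup_le ?_ ?_ <;> refine le_inf ?_ ?_ <;>
        rw [Submodule.span_singleton_le_iff_mem, mem_perp_span_singleton hQ] <;>
        first | assumption | (rw [b_symm hQ]; assumption)
    have h1 := Submodule.finrank_mono hle
    have h3 : Submodule.span F {a} < S :=
      lt_of_le_not_ge le_sup_left fun h => hnot (h (Submodule.mem_sup_right (Submodule.mem_span_singleton_self b)))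
    have h4 := Submodule.finrank_lt_finrank_of_lt h3
    rw [finrank_span_singleton ha0] at h4
    have h5 := finrank_perp_add hQ S
    exact hexc ⟨h2, by omega⟩
  obtain ⟨y, hya, hyb, hy⟩ : ∃ y, bform hQ a y ≠ 0 ∧ bform hQ b y ≠ 0 ∧ Q y ≠ 0 := by
    obtain ⟨y1, hy1, hy1'⟩ := exists_b_one_zero hQ (v := a) (v' := b) (by
      intro hmem
      obtain ⟨t, ht⟩ := Submodule.mem_span_singleton.1 hmem
      have ht0 : t ≠ 0 := by rintro rfl; exact ha0 (by rw [← ht, zero_smul])
      exact hnot (Submodule.mem_span_singleton.2 ⟨t⁻¹, by rw [← ht, inv_smul_smul₀ ht0]⟩))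
    obtain ⟨y2, hy2, hy2'⟩ := exists_b_one_zero hQ hnot
    by_cases hQy : Q (y1 + y2) = 0
    swap
    · exact ⟨y1 + y2, by rw [map_add, hy1', hy2, add_zero]; exact one_ne_zero,
        by rw [map_add, hy1, hy2', zero_add]; exact one_ne_zero, hQy⟩
    obtain ⟨t, ht0, ht1⟩ := CfsgLib.Classical.Orth.exists_not_eq_zero_of_card hq2 (-1 / Q a)
    refine ⟨(y1 + y2) + t • a, ?_, ?_, ?_⟩
    · rw [map_add, map_add, map_smul, hy1', hy2, haa, smul_zero, add_zero, add_zero]; exact one_ne_zero
    · rw [map_add, map_add, map_smul, hy1, hy2', b_symm hQ b a, hbab, smul_zero, zero_add, add_zero]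
      exact one_ne_zero
    · rw [q_add hQ, q_smul hQ, hQy, zero_add, map_smul, smul_eq_mul, b_symm hQ (y1 + y2) a, map_add, hy1', hy2,
        add_zero, mul_one]
      intro h0
      have : t * (t * Q a + 1) = 0 := by linear_combination h0
      have h2 := (mul_eq_zero.1 this).resolve_left ht0
      exact ht1 (by field_simp; linear_combination h2)
  set c : ι → F := (reflection hQ hy : Matrix ι ι F) *ᵥ a with hc
  have hQc : Q c = Q a := mem_isometryGroup.1 (reflection_mem hQ hy) a
  have hca : bform hQ c b ≠ 0 := by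
    rw [hc, reflection_mulVec hQ, map_sub, map_smul, LinearMap.sub_apply, LinearMap.smul_apply, hbab,
      smul_eq_mul, zero_sub, neg_ne_zero, b_symm hQ y a, b_symm hQ y b]
    exact mul_ne_zero (mul_ne_zero (inv_ne_zero hy) hya) hyb
  obtain ⟨g, hg, hgc⟩ := step c b (hQc.trans h) hca
  exact ⟨g * reflection hQ hy, mul_mem hg (reflection_mem hQ hy), by
    rw [Units.val_mul, ← Matrix.mulVec_mulVec, ← hc, hgc]⟩

/-- The product of two reflections lies in Omega. -/
theorem reflection_pair_mem_omega (hexc : ¬ (Nat.card F = 2 ∧ Fintype.card ι = 4)) {a b : ι → F}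
    (ha : Q a ≠ 0) (hb : Q b ≠ 0) : reflection hQ ha * reflection hQ hb ∈ omegaGL Q := by
  obtain ⟨s, hs⟩ := FiniteField.isSquare_of_char_two (ringChar.eq F 2) (Q a / Q b)
  have hs' : Q (s • b) = Q a := by
    rw [q_smul hQ, sq, ← hs, div_mul_cancel₀ _ hb]
  have hsb : Q (s • b) ≠ 0 := hs' ▸ ha
  obtain ⟨g, hg, hgb⟩ := exists_isometry_map_value hQ hexc hsb hs'
  rw [← reflection_smul hQ hb hsb, ← conj_reflection hQ hg hsb ha hgb]
  have := commutator_mem_omegaGL hg (reflection_mem hQ hsb)
  rwa [commutatorElement_def, reflection_inv hQ] at this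

/-- Every isometry lies in Omega or in the coset of a given reflection. -/
theorem mem_omega_or_reflection_mul_mem (hexc : ¬ (Nat.card F = 2 ∧ Fintype.card ι = 4)) {a : ι → F}
    (ha : Q a ≠ 0) {g : GL ι F} (hg : g ∈ Cfsg.isometryGroup F Q) :
    g ∈ omegaGL Q ∨ reflection hQ ha * g ∈ omegaGL Q := by
  refine CfsgLib.Classical.Orth.reflection_induction hQ hexc
    (p := fun g => g ∈ omegaGL Q ∨ reflection hQ ha * g ∈ omegaGL Q) (Or.inl (one_mem _)) ?_ hg
  intro g v hv _ hp
  rcases hp with h | h
  · right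
    rw [← mul_assoc]
    exact mul_mem (reflection_pair_mem_omega hQ hexc ha hv) h
  · left
    have := mul_mem (reflection_pair_mem_omega hQ hexc hv ha) h
    rwa [mul_assoc, ← mul_assoc (reflection hQ ha) (reflection hQ ha), reflection_mul_reflection_self hQ ha,
      one_mul] at this

end CfsgLib.OrthGeo
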