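import Cfsg.Agent.OrthGeo.CharTwo
import Cfsg.Agent.Classical.Orth.Omega

/-! Involutions of orthogonal groups in characteristic two and their conjugacy in Omega. -/

set_option autoImplicit false
set_option linter.unusedSectionVars false

namespace CfsgLib.OrthGeo

open Cfsg.Geo Module
open scoped Matrix MatrixGroups commutatorElement

variable {ι : Type} [Fintype ι] [DecidableEq ι] {F : Type*} [Field F]
variable {Q : (ι → F) → F}

lemma finrank_residual_eq_rank (g : GL ι F) :
    finrank F (CfsgLib.Classical.Orth.residual g) = ((g : Matrix ι ι F) - 1).rank := by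
  have h : CfsgLib.Classical.Orth.residual g = LinearMap.range ((g : Matrix ι ι F) - 1).mulVecLin := by
    ext u
    rw [CfsgLib.Classical.Orth.mem_residual, LinearMap.mem_range]
    constructor
    · rintro ⟨x, hx⟩
      exact ⟨-x, by rw [Matrix.mulVecLin_apply, Matrix.sub_mulVec, Matrix.one_mulVec, Matrix.mulVec_neg, ← hx]; abel⟩
    · rintro ⟨x, hx⟩
      exact ⟨-x, by rw [Matrix.mulVecLin_apply, Matrix.sub_mulVec, Matrix.one_mulVec] at hx; rw [← hx, Matrix.mulVec_neg]; abel⟩
  rw [h]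
  rfl

variable (hQ : IsNondegenerateQuadraticForm Q)
include hQ

theorem involution_mem_omega_iff [Finite F] [CharP F 2] (hexc : ¬ (Nat.card F = 2 ∧ Fintype.card ι = 4))
    (t : Cfsg.isometryGroup F Q) :
    t ∈ Cfsg.Omega F Q ↔ Even (((t : GL ι F) : Matrix ι ι F) - 1).rank := by
  rw [CfsgLib.Classical.Orth.mem_omega_iff_even hQ (by exact_mod_cast CharP.cast_eq_zero F 2) hexc t,
    finrank_residual_eq_rank]

variable [Finite F] [CharP F 2]

/-- If the fixed space of `t` is not totally singular, `O`-conjugates of `t` are `Omega`-conjugate. -/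
theorem omega_conj_of_fixed (hexc : ¬ (Nat.card F = 2 ∧ Fintype.card ι = 4)) {t s : Cfsg.isometryGroup F Q}
    (hconj : IsConj t s)
    (hv : ∃ v : ι → F, ((t : GL ι F) : Matrix ι ι F) *ᵥ v = v ∧ Q v ≠ 0) :
    ∃ g ∈ Cfsg.Omega F Q, g * t * g⁻¹ = s := by
  obtain ⟨v, htv, hQv⟩ := hv
  obtain ⟨h, hh⟩ := isConj_iff.1 hconj
  let r : Cfsg.isometryGroup F Q := ⟨reflection hQ hQv, reflection_mem hQ hQv⟩
  have hr : r * t * r⁻¹ = t := by
    apply Subtype.ext
    have e : (t : GL ι F) * reflection hQ hQv * (t : GL ι F)⁻¹ = reflection hQ hQv :=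
      conj_reflection hQ t.2 hQv hQv htv
    show reflection hQ hQv * (t : GL ι F) * (reflection hQ hQv)⁻¹ = (t : GL ι F)
    rw [mul_inv_eq_iff_eq_mul] at e
    rw [← e]; group
  rcases mem_omega_or_reflection_mul_mem hQ hexc hQv (inv_mem h.2) with ⟨y, hy, hye⟩ | ⟨y, hy, hye⟩
  · refine ⟨h, ?_, hh⟩
    have e : h⁻¹ = y := Subtype.ext hye.symm
    have : h = y⁻¹ := by rw [← e, inv_inv]
    rw [this]; exact inv_mem hy
  · refine ⟨h * r, ?_, ?_⟩
    · have e : r * h⁻¹ = y := Subtype.ext hye.symm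
      have : h * r = y⁻¹ := by
        have hr1 : r⁻¹ = r := Subtype.ext (reflection_inv hQ hQv)
        rw [← e, mul_inv_rev, inv_inv, hr1]
      rw [this]; exact inv_mem hy
    · calc h * r * t * (h * r)⁻¹ = h * (r * t * r⁻¹) * h⁻¹ := by group
        _ = s := by rw [hr, hh]

/-- When no vector outside the quadric is fixed, conjugacy in `Omega` is decided by the classes of the
residual spaces. -/
theorem omega_conj_iff_of_residual (hn : 4 ≤ Fintype.card ι) (hexc : ¬ (Nat.card F = 2 ∧ Fintype.card ι = 4))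
    {t s : Cfsg.isometryGroup F Q} (ht : t ∈ Cfsg.Omega F Q) (hconj : IsConj t s)
    (hsing : IsTotallySingularQuad Q
      (LinearMap.range (Matrix.toLin' (((t : GL ι F) : Matrix ι ι F) - 1))))
    (hrank : 2 * (((t : GL ι F) : Matrix ι ι F) - 1).rank = Fintype.card ι) :
    (∃ g ∈ Cfsg.Omega F Q, g * t * g⁻¹ = s) ↔
      Even (finrank F ↥(LinearMap.range (Matrix.toLin' (((t : GL ι F) : Matrix ι ι F) - 1)) ⊓
        LinearMap.range (Matrix.toLin' (((s : GL ι F) : Matrix ι ι F) - 1)))) := by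
  set R := LinearMap.range (Matrix.toLin' (((t : GL ι F) : Matrix ι ι F) - 1)) with hR
  have hdR : finrank F R = (((t : GL ι F) : Matrix ι ι F) - 1).rank := rfl
  have hU : IsMaxTS Q R := ⟨hsing, by rw [hdR]; exact hrank⟩
  have hev : Even (finrank F R) := hdR ▸ (involution_mem_omega_iff hQ hexc t).1 ht
  have himg : ∀ g : Cfsg.isometryGroup F Q, g * t * g⁻¹ = s →
      imgSub (g : GL ι F) R = LinearMap.range (Matrix.toLin' (((s : GL ι F) : Matrix ι ι F) - 1)) := by
    intro g hg
    have e : ((s : GL ι F) : Matrix ι ι F) * ((g : GL ι F) : Matrix ι ι F) =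
        ((g : GL ι F) : Matrix ι ι F) * ((t : GL ι F) : Matrix ι ι F) := by
      rw [← Units.val_mul, ← Units.val_mul, ← Subgroup.coe_mul, ← Subgroup.coe_mul, ← hg]
      congr 2; group
    ext x
    simp only [imgSub, hR, Submodule.mem_map, LinearMap.mem_range, Matrix.toLin'_apply]
    constructor
    · rintro ⟨_, ⟨y, rfl⟩, rfl⟩
      exact ⟨((g : GL ι F) : Matrix ι ι F) *ᵥ y, by
        simp only [Matrix.mulVec_mulVec, Matrix.sub_mul, Matrix.mul_sub, one_mul, mul_one, e]⟩
    · rintro ⟨y, rfl⟩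
      refine ⟨_, ⟨(((g : GL ι F)⁻¹ : GL ι F) : Matrix ι ι F) *ᵥ y, rfl⟩, ?_⟩
      conv_rhs => rw [← mulVec_inv_cancel (g : GL ι F) y]
      simp only [Matrix.mulVec_mulVec, ← mul_assoc, Matrix.mul_sub, Matrix.sub_mul, one_mul, mul_one, e]
  constructor
  · rintro ⟨g, hg, hgs⟩
    have h1 := omega_preserves_class hQ hU (g := (g : GL ι F)) ⟨g, hg, rfl⟩
    rw [himg g hgs] at h1
    exact (Nat.even_add.1 h1).1 hev
  · intro he
    obtain ⟨h, hh⟩ := isConj_iff.1 hconj
    refine ⟨h, ?_, hh⟩
    have hc : classHom hQ hU h = 1 := by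
      rw [classHom_eq_one_iff, himg h hh]
      exact hev.add he
    obtain ⟨a, ha⟩ : ∃ a, Q a ≠ 0 := by
      by_contra hcon
      push Not at hcon
      have h1 := two_mul_finrank_le hQ (S := ⊤) (fun u _ => hcon u)
      rw [finrank_top, finrank_fintype_fun_eq_card] at h1
      omega
    rcases mem_omega_or_reflection_mul_mem hQ hexc ha h.2 with ⟨y, hy, hye⟩ | ⟨y, hy, hye⟩
    · rwa [show h = y from Subtype.ext hye.symm]
    · exfalso
      have h1 : classHom hQ hU y = 1 := Abelianization.commutator_subset_ker (classHom hQ hU) hy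
      rw [show y = ⟨_, reflection_mem hQ ha⟩ * h from Subtype.ext hye, map_mul, hc, mul_one,
        classHom_eq_one_iff] at h1
      exact Nat.not_even_iff_odd.2 (reflection_swaps_class hQ hU ha) h1

omit [Finite F] in
/-- For an involution the residual space lies in the fixed space. -/
lemma involution_fixed_dichotomy {t : Cfsg.isometryGroup F Q} (ht : t * t = 1) :
    (∃ v : ι → F, ((t : GL ι F) : Matrix ι ι F) *ᵥ v = v ∧ Q v ≠ 0) ∨
      (IsTotallySingularQuad Q (LinearMap.range (Matrix.toLin' (((t : GL ι F) : Matrix ι ι F) - 1))) ∧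
        2 * (((t : GL ι F) : Matrix ι ι F) - 1).rank = Fintype.card ι) := by
  by_cases h : ∃ v : ι → F, ((t : GL ι F) : Matrix ι ι F) *ᵥ v = v ∧ Q v ≠ 0
  · exact Or.inl h
  push Not at h
  refine Or.inr ?_
  set T := ((t : GL ι F) : Matrix ι ι F) with hT
  have hTT : T * T = 1 := by
    rw [hT, ← Units.val_mul, ← Subgroup.coe_mul, ht]; rfl
  have two : (2 : F) = 0 := by exact_mod_cast CharP.cast_eq_zero F 2
  set K := LinearMap.ker (Matrix.toLin' (T - 1)) with hK
  set R := LinearMap.range (Matrix.toLin' (T - 1)) with hR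
  have hKs : IsTotallySingularQuad Q K := fun v hv => h v (by
    rw [hK, LinearMap.mem_ker, Matrix.toLin'_apply, Matrix.sub_mulVec, Matrix.one_mulVec, sub_eq_zero] at hv
    exact hv)
  have hRK : R ≤ K := by
    rintro _ ⟨x, rfl⟩
    rw [hK, LinearMap.mem_ker, Matrix.toLin'_apply, Matrix.toLin'_apply, Matrix.mulVec_mulVec]
    have : (T - 1) * (T - 1) = 0 := by
      have e : (T - 1) * (T - 1) = (2 : F) • (1 - T) := by
        rw [Matrix.sub_mul, Matrix.mul_sub, hTT, two_smul]; simp; abel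
      rw [e, two, zero_smul]
    rw [this, Matrix.zero_mulVec]
  refine ⟨fun v hv => hKs v (hRK hv), ?_⟩
  have h1 := two_mul_finrank_le hQ hKs
  have h2 := LinearMap.finrank_range_add_finrank_ker (Matrix.toLin' (T - 1))
  rw [← hK, ← hR, finrank_fintype_fun_eq_card] at h2
  have h3 := Submodule.finrank_mono hRK
  have h4 : finrank F R = (T - 1).rank := rfl
  omega

end CfsgLib.OrthGeo
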